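import Mathlib.Algebra.Order.Group.Nat
import Mathlib.Data.Finset.Card
import Mathlib.Algebra.BigOperators.Group.Finset.Basic
import Mathlib.Algebra.Order.BigOperators.Group.Finset
import Mathlib.Algebra.Group.Subgroup.Basic
import Mathlib.Algebra.Group.Subgroup.Ker
import Mathlib.Tactic

/-!
# Growth of the `l`-power torsion of a commutative group
-/

set_option autoImplicit false

namespace Groth.Agent.Sga7.H620.Growth

/-- The `l^n`-torsion of `P` has at most `C * l ^ (a * n)` elements, `C` independent of `n`. -/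
def TB (P : Type*) [CommGroup P] (l a : ℕ) : Prop :=
  ∃ C : ℕ, ∀ (n : ℕ) (s : Finset P), (∀ x ∈ s, x ^ (l ^ n) = 1) → s.card ≤ C * l ^ (a * n)

/-- The `l^n`-torsion of `P` has at least `C⁻¹ * l ^ (a * n)` elements. -/
def TL (P : Type*) [CommGroup P] (l a : ℕ) : Prop :=
  ∃ C : ℕ, ∀ n : ℕ, ∃ s : Finset P, (∀ x ∈ s, x ^ (l ^ n) = 1) ∧ l ^ (a * n) ≤ C * s.card

section

variable {P P₁ P₂ : Type*} [CommGroup P] [CommGroup P₁] [CommGroup P₂] {l a b : ℕ}

theorem TB.mono (hl : 1 ≤ l) (h : TB P l a) (hab : a ≤ b) : TB P l b := by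
  obtain ⟨C, hC⟩ := h
  exact ⟨C, fun n s hs => (hC n s hs).trans
    (Nat.mul_le_mul_left _ (Nat.pow_le_pow_right hl (Nat.mul_le_mul_right _ hab)))⟩

theorem TB.of_injective (f : P₁ →* P) (hf : Function.Injective f) (h : TB P l a) : TB P₁ l a := by
  classical
  obtain ⟨C, hC⟩ := h
  refine ⟨C, fun n s hs => ?_⟩
  rw [← Finset.card_image_of_injective s hf]
  apply hC
  intro x hx
  obtain ⟨y, hy, rfl⟩ := Finset.mem_image.mp hx
  rw [← map_pow, hs y hy, map_one]

theorem TL.of_injective (f : P₁ →* P) (hf : Function.Injective f) (h : TL P₁ l a) : TL P l a := by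
  classical
  obtain ⟨C, hC⟩ := h
  refine ⟨C, fun n => ?_⟩
  obtain ⟨s, hs, hs'⟩ := hC n
  refine ⟨s.image f, ?_, ?_⟩
  · intro x hx
    obtain ⟨y, hy, rfl⟩ := Finset.mem_image.mp hx
    rw [← map_pow, hs y hy, map_one]
  · rwa [Finset.card_image_of_injective s hf]

theorem TL.of_injOn (f : P₁ →* P) (hf : ∀ (n : ℕ) (x : P₁), x ^ (l ^ n) = 1 → f x = 1 → x = 1) (h : TL P₁ l a) :
    TL P l a := by
  classical
  obtain ⟨C, hC⟩ := h
  refine ⟨C, fun n => ?_⟩
  obtain ⟨s, hs, hs'⟩ := hC n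
  refine ⟨s.image f, ?_, ?_⟩
  · intro x hx
    obtain ⟨y, hy, rfl⟩ := Finset.mem_image.mp hx
    rw [← map_pow, hs y hy, map_one]
  · rwa [Finset.card_image_of_injOn]
    intro x hx y hy hxy
    rw [← mul_inv_eq_one]
    refine hf n _ ?_ ?_
    · rw [mul_pow, inv_pow, hs x hx, hs y hy, inv_one, mul_one]
    · rw [map_mul, map_inv, mul_inv_eq_one]
      exact hxy

theorem TB.of_exact (f : P₁ →* P) (q : P →* P₂) (hf : Function.Injective f)
    (hq : ∀ x, q x = 1 → ∃ z, f z = x) (h₁ : TB P₁ l a) (h₂ : TB P₂ l b) : TB P l (a + b) := by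
  classical
  obtain ⟨C₁, hC₁⟩ := h₁
  obtain ⟨C₂, hC₂⟩ := h₂
  refine ⟨C₁ * C₂, fun n s hs => ?_⟩
  have key : ∀ y ∈ s.image q, (s.filter (fun x => q x = y)).card ≤ C₁ * l ^ (a * n) := by
    intro y hy
    obtain ⟨x₀, hx₀, rfl⟩ := Finset.mem_image.mp hy
    have hz : ∀ x, q x = q x₀ → ∃ z, f z = x * x₀⁻¹ := fun x hx => hq _ (by rw [map_mul, map_inv, hx, mul_inv_cancel])
    choose! z hz using hz
    have hinj : Set.InjOn z (s.filter (fun x => q x = q x₀)) := by
      intro x hx x' hx' hxx'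
      have h1 := hz x (Finset.mem_filter.mp hx).2
      have h2 := hz x' (Finset.mem_filter.mp hx').2
      rw [hxx', h2] at h1
      exact (mul_right_cancel h1).symm
    rw [← Finset.card_image_of_injOn hinj]
    apply hC₁
    intro w hw
    obtain ⟨x, hx, rfl⟩ := Finset.mem_image.mp hw
    apply hf
    rw [map_pow, map_one, hz x (Finset.mem_filter.mp hx).2, mul_pow, inv_pow, hs x (Finset.mem_filter.mp hx).1,
      hs x₀ hx₀, mul_inv_cancel]
  have h3 := Finset.card_le_mul_card_image (s := s) (f := q) (C₁ * l ^ (a * n)) key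
  have h4 : (s.image q).card ≤ C₂ * l ^ (b * n) := by
    apply hC₂
    intro y hy
    obtain ⟨x, hx, rfl⟩ := Finset.mem_image.mp hy
    rw [← map_pow, hs x hx, map_one]
  refine h3.trans ((Nat.mul_le_mul_left _ h4).trans (le_of_eq ?_))
  rw [add_mul, pow_add]
  ring

/-- Lower bound for the quotient. -/
theorem TL.of_exact (hl : 1 ≤ l) (f : P₁ →* P) (q : P →* P₂) (hf : Function.Injective f)
    (hq : ∀ x, q x = 1 → ∃ z, f z = x) (h₁ : TB P₁ l a) (h : TL P l (a + b)) : TL P₂ l b := by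
  classical
  obtain ⟨C₁, hC₁⟩ := h₁
  obtain ⟨C, hC⟩ := h
  refine ⟨C * C₁, fun n => ?_⟩
  obtain ⟨s, hs, hs'⟩ := hC n
  refine ⟨s.image q, ?_, ?_⟩
  · intro y hy
    obtain ⟨x, hx, rfl⟩ := Finset.mem_image.mp hy
    rw [← map_pow, hs x hx, map_one]
  have key : ∀ y ∈ s.image q, (s.filter (fun x => q x = y)).card ≤ C₁ * l ^ (a * n) := by
    intro y hy
    obtain ⟨x₀, hx₀, rfl⟩ := Finset.mem_image.mp hy
    have hz : ∀ x, q x = q x₀ → ∃ z, f z = x * x₀⁻¹ := fun x hx => hq _ (by rw [map_mul, map_inv, hx, mul_inv_cancel])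
    choose! z hz using hz
    have hinj : Set.InjOn z (s.filter (fun x => q x = q x₀)) := by
      intro x hx x' hx' hxx'
      have h1 := hz x (Finset.mem_filter.mp hx).2
      have h2 := hz x' (Finset.mem_filter.mp hx').2
      rw [hxx', h2] at h1
      exact (mul_right_cancel h1).symm
    rw [← Finset.card_image_of_injOn hinj]
    apply hC₁
    intro w hw
    obtain ⟨x, hx, rfl⟩ := Finset.mem_image.mp hw
    apply hf
    rw [map_pow, map_one, hz x (Finset.mem_filter.mp hx).2, mul_pow, inv_pow, hs x (Finset.mem_filter.mp hx).1,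
      hs x₀ hx₀, mul_inv_cancel]
  have h3 := Finset.card_le_mul_card_image (s := s) (f := q) (C₁ * l ^ (a * n)) key
  have h5 : l ^ (a * n) * l ^ (b * n) ≤ l ^ (a * n) * (C * C₁ * (s.image q).card) := by
    calc l ^ (a * n) * l ^ (b * n) = l ^ ((a + b) * n) := by rw [add_mul, pow_add]
      _ ≤ C * s.card := hs'
      _ ≤ C * (C₁ * l ^ (a * n) * (s.image q).card) := Nat.mul_le_mul_left _ h3
      _ = l ^ (a * n) * (C * C₁ * (s.image q).card) := by ring
  exact Nat.le_of_mul_le_mul_left h5 (pow_pos hl _)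

/-- A finite-index subgroup has the same growth. -/
theorem TL.of_finite_quotient (hl : 1 ≤ l) (f : P₁ →* P) (hf : Function.Injective f)
    {ι : Type*} [Finite ι] (c : P → ι) (hc : ∀ x y, c x = c y → ∃ z, f z = x * y⁻¹) (h : TL P l a) :
    TL P₁ l a := by
  classical
  obtain ⟨C, hC⟩ := h
  cases nonempty_fintype ι
  refine ⟨C * Fintype.card ι, fun n => ?_⟩
  obtain ⟨s, hs, hs'⟩ := hC n
  -- choose the largest class
  rcases Nat.eq_zero_or_pos s.card with h0 | h0
  · rw [h0, mul_zero] at hs'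
    exact absurd hs' (not_le.mpr (pow_pos hl _))
  have hne : s.Nonempty := Finset.card_pos.mp h0
  have : Nonempty ι := ⟨c hne.choose⟩
  obtain ⟨i, -, hi⟩ := Finset.exists_max_image (Finset.univ : Finset ι) (fun i => (s.filter (fun x => c x = i)).card)
    ⟨Classical.arbitrary ι, Finset.mem_univ _⟩
  have hcard : s.card ≤ Fintype.card ι * (s.filter (fun x => c x = i)).card := by
    rw [Finset.card_eq_sum_card_fiberwise (f := c) (t := Finset.univ) (fun x _ => Finset.mem_univ _)]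
    refine (Finset.sum_le_card_nsmul _ _ _ (fun j hj => hi j hj)).trans (le_of_eq ?_)
    rw [Finset.card_univ, smul_eq_mul]
  set t := s.filter (fun x => c x = i) with ht
  have htne : t.Nonempty := by
    rw [← Finset.card_pos]
    by_contra h1
    rw [Nat.eq_zero_of_not_pos h1, mul_zero] at hcard
    omega
  obtain ⟨x₀, hx₀⟩ := htne
  have hz : ∀ x ∈ t, ∃ z, f z = x * x₀⁻¹ := fun x hx => hc _ _
    ((Finset.mem_filter.mp hx).2.trans (Finset.mem_filter.mp hx₀).2.symm)
  choose! z hz using hz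
  have hinj : Set.InjOn z t := by
    intro x hx x' hx' hxx'
    have h1 := hz x hx
    have h2 := hz x' hx'
    rw [hxx', h2] at h1
    exact (mul_right_cancel h1).symm
  refine ⟨t.image z, ?_, ?_⟩
  · intro w hw
    obtain ⟨x, hx, rfl⟩ := Finset.mem_image.mp hw
    apply hf
    rw [map_pow, map_one, hz x hx, mul_pow, inv_pow, hs x (Finset.mem_filter.mp hx).1,
      hs x₀ (Finset.mem_filter.mp hx₀).1, mul_inv_cancel]
  · rw [Finset.card_image_of_injOn hinj]
    calc l ^ (a * n) ≤ C * s.card := hs'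
      _ ≤ C * (Fintype.card ι * t.card) := Nat.mul_le_mul_left _ hcard
      _ = C * Fintype.card ι * t.card := by ring

theorem not_TB_of_TL (hl : 2 ≤ l) (h : TL P l b) (hab : a < b) : ¬ TB P l a := by
  rintro ⟨C₁, hC₁⟩
  obtain ⟨C, hC⟩ := h
  set n := C * C₁ + 1
  obtain ⟨s, hs, hs'⟩ := hC n
  have h1 := hC₁ n s hs
  have h2 : l ^ (a * n) * l ^ ((b - a) * n) ≤ l ^ (a * n) * (C * C₁) := by
    calc l ^ (a * n) * l ^ ((b - a) * n) = l ^ (b * n) := by
          rw [← pow_add, ← add_mul, Nat.add_sub_cancel' hab.le]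
      _ ≤ C * s.card := hs'
      _ ≤ C * (C₁ * l ^ (a * n)) := Nat.mul_le_mul_left _ h1
      _ = l ^ (a * n) * (C * C₁) := by ring
  have h3 : l ^ ((b - a) * n) ≤ C * C₁ := Nat.le_of_mul_le_mul_left h2 (pow_pos (by omega) _)
  have h4 : n < l ^ n := Nat.lt_pow_self (by omega)
  have h5 : l ^ n ≤ l ^ ((b - a) * n) := Nat.pow_le_pow_right (by omega) (Nat.le_mul_of_pos_left n (by omega))
  omega

end

end Groth.Agent.Sga7.H620.Growth
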