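import Groth.Agent.Sga7.H620.Special
import Groth.Agent.Sga3C.GrpIrr
import Groth.Agent.S3025
import Groth.Prelude.Def_SGA7IX

/-!
# The identity component of a smooth group scheme and its fibres; points of a Néron model
-/

set_option autoImplicit false
universe u
open CategoryTheory MonoidalCategory CartesianMonoidalCategory MonObj GrpObj AlgebraicGeometry Limits TopologicalSpace
open Groth.Agent.Sga7.H620.Growth Groth.Agent.Sga3C Groth.Agent.Sga3.H778.NeutralPts
  Groth.Agent.Sga3.H778.NeutralOpen Groth.Agent.Sga7.H620.Special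

namespace Groth.Agent.Sga7.H620.Neutral

section

variable {S : Scheme.{u}} (N : Over S) [GrpObj N]

theorem isOpen_neutral [Smooth N.hom] : IsOpen (SGA3x.neutralSet N) :=
  isOpen_neutralSet N ⊤ (fun _ => trivial)

theorem smooth_neutral' [Smooth N.hom] (h : IsOpen (SGA3x.neutralSet N)) : Smooth (opn N (neutral N h)).hom :=
  smooth_neutral N ⊤ (fun _ => trivial) h

theorem quasiCompact_neutral [Smooth N.hom] (h : IsOpen (SGA3x.neutralSet N)) [GrpObj (opn N (neutral N h))] :
    QuasiCompact (opn N (neutral N h)).hom := by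
  have := smooth_neutral' N h
  exact (Groth.Agent.S3025.result S (opn N (neutral N h)) (isConnected_fibre N h)).2

theorem geometricallyIrreducible_neutral [Smooth N.hom] (h : IsOpen (SGA3x.neutralSet N))
    [GrpObj (opn N (neutral N h))] : GeometricallyIrreducible (opn N (neutral N h)).hom := by
  have := smooth_neutral' N h
  have : GrpObj (Over.mk (opn N (neutral N h)).hom) := inferInstanceAs (GrpObj (opn N (neutral N h)))
  exact GrpIrr.geometricallyIrreducible_of_connected_fibres _ (isConnected_fibre N h)

theorem connectedSpace_bc_neutral [Smooth N.hom] (h : IsOpen (SGA3x.neutralSet N))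
    [GrpObj (opn N (neutral N h))] {F : Type u} [Field F] (t : Spec (CommRingCat.of F) ⟶ S) :
    ConnectedSpace (Red.bc t (opn N (neutral N h))).left := by
  have := geometricallyIrreducible_neutral N h
  have h1 : IrreducibleSpace ↥(pullback (opn N (neutral N h)).hom t) :=
    this.geometrically_irreducibleSpace t _ _ (IsPullback.of_hasPullback _ _)
  exact inferInstanceAs (ConnectedSpace ↥(pullback (opn N (neutral N h)).hom t))

/-- The square of a base change. -/
theorem isPullback_map_left {S' : Scheme.{u}} (f : S' ⟶ S) {X Y : Over S} (g : X ⟶ Y) :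
    IsPullback ((Over.pullback f).map g).left (pullback.fst X.hom f) (pullback.fst Y.hom f) g.left := by
  have h1 : IsPullback (pullback.fst X.hom f) (pullback.snd X.hom f) X.hom f := .of_hasPullback _ _
  have h2 : IsPullback (pullback.fst Y.hom f) (pullback.snd Y.hom f) Y.hom f := .of_hasPullback _ _
  have h3 : ((Over.pullback f).map g).left ≫ pullback.fst Y.hom f = pullback.fst X.hom f ≫ g.left :=
    pullback.lift_fst _ _ _
  have h4 : ((Over.pullback f).map g).left ≫ pullback.snd Y.hom f = pullback.snd X.hom f :=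
    pullback.lift_snd _ _ _
  refine (IsPullback.of_right (h₁₂ := pullback.snd Y.hom f) (v₁₃ := f) (h₂₂ := Y.hom) ?_ h3 h2.flip)
  rw [h4, Over.w g]
  exact h1.flip

theorem range_opnι (h : IsOpen (SGA3x.neutralSet N)) :
    Set.range (opnι N (neutral N h)).left = SGA3x.neutralSet N := by
  change Set.range (neutral N h).ι = _
  rw [Scheme.Opens.range_ι]
  rfl

theorem surjective_bc_neutral [Smooth N.hom] (h : IsOpen (SGA3x.neutralSet N))
    {F : Type u} [Field F] (t : Spec (CommRingCat.of F) ⟶ S) [ConnectedSpace (Red.bc t N).left] :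
    Surjective ((Over.pullback t).map (opnι N (neutral N h))).left := by
  refine ⟨fun z => ?_⟩
  have hz : pullback.fst N.hom t z ∈ Set.range (opnι N (neutral N h)).left := by
    rw [range_opnι]
    have : Subsingleton (Over.mk t : Over S).left := inferInstanceAs (Subsingleton ↥(Spec (CommRingCat.of F)))
    have h1 := preimage_neutralSet_of_subsingleton (G := N) (Over.mk t) (IsLocalRing.closedPoint F)
    have h2 : ConnectedSpace ↥(Over.mk t ⊗ N).left := by
      have h3 : ConnectedSpace ↥(pullback N.hom t) := inferInstanceAs (ConnectedSpace ↥(Red.bc t N).left)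
      exact (pullbackSymmetry N.hom t).hom.surjective.connectedSpace (pullbackSymmetry N.hom t).hom.continuous
    have h3 : (snd (Over.mk t) N).left ((pullbackSymmetry N.hom t).hom z) ∈ SGA3x.neutralSet N := by
      change (pullbackSymmetry N.hom t).hom z ∈ (snd (Over.mk t) N).left ⁻¹' SGA3x.neutralSet N
      rw [h1, PreconnectedSpace.connectedComponent_eq_univ]
      trivial
    have h4 : (snd (Over.mk t) N).left ((pullbackSymmetry N.hom t).hom z) = pullback.fst N.hom t z := by
      rw [Over.snd_left]
      change (pullback.snd t N.hom) ((pullbackSymmetry N.hom t).hom z) = _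
      rw [← Scheme.Hom.comp_apply, pullbackSymmetry_hom_comp_snd]
    rwa [← h4]
  obtain ⟨y, hy⟩ := hz
  obtain ⟨w, hw, -⟩ := Scheme.exists_preimage_of_isPullback
    (isPullback_map_left t (opnι N (neutral N h))) z y hy.symm
  exact ⟨w, hw⟩

theorem isIso_bc_neutral [Smooth N.hom] (h : IsOpen (SGA3x.neutralSet N))
    {F : Type u} [Field F] (t : Spec (CommRingCat.of F) ⟶ S) [ConnectedSpace (Red.bc t N).left] :
    IsIso ((Over.pullback t).map (opnι N (neutral N h))) := by
  have h1 : IsOpenImmersion ((Over.pullback t).map (opnι N (neutral N h))).left :=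
    MorphismProperty.of_isPullback (P := @IsOpenImmersion) (isPullback_map_left t (opnι N (neutral N h))).flip
      inferInstance
  have h2 := surjective_bc_neutral N h t
  have h3 : IsIso ((Over.pullback t).map (opnι N (neutral N h))).left :=
    (isIso_iff_isOpenImmersion_and_surjective _).2 ⟨h1, h2⟩
  have h4 : IsIso ((Over.forget _).map ((Over.pullback t).map (opnι N (neutral N h)))) := h3
  exact isIso_of_reflects_iso _ (Over.forget _)

end

section Points

variable {S S' : Scheme.{u}} (f : S' ⟶ S) (N : Over S) [GrpObj N]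

/-- Base change on sections. -/
noncomputable def bcPt : (𝟙_ (Over S) ⟶ N) →* (𝟙_ (Over S') ⟶ Red.bc f N) :=
  (Sga3B.BcPts.bcMulEquiv f (𝟙_ (Over S')) N).toMonoidHom.comp
    (preHom N (toUnit ((Over.map f).obj (𝟙_ (Over S')))))

theorem bcPt_apply (x : 𝟙_ (Over S) ⟶ N) :
    bcPt f N x = Sga3B.BcPts.bcEquiv f (𝟙_ (Over S')) (𝟙_ (Over S)) (toUnit _) ≫ (Over.pullback f).map x := by
  rw [← Sga3B.BcPts.bcEquiv_comp]
  rfl

theorem bijective_bcPt (h : Function.Bijective (fun g : 𝟙_ (Over S) ⟶ N => (Over.pullback f).map g)) :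
    Function.Bijective (bcPt f N) := by
  have ht : IsTerminal ((Over.pullback f).obj (𝟙_ (Over S))) := by
    have := (Over.mapPullbackAdj f).rightAdjoint_preservesLimits
    exact IsTerminal.isTerminalObj (Over.pullback f) _ isTerminalTensorUnit
  have hi : IsIso (Sga3B.BcPts.bcEquiv f (𝟙_ (Over S')) (𝟙_ (Over S)) (toUnit _)) :=
    isIso_of_isTerminal isTerminalTensorUnit ht _
  have h1 : (bcPt f N : _ → _) = (fun g => Sga3B.BcPts.bcEquiv f (𝟙_ (Over S')) (𝟙_ (Over S)) (toUnit _) ≫ g) ∘
      (fun g : 𝟙_ (Over S) ⟶ N => (Over.pullback f).map g) := by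
    funext x
    exact bcPt_apply f N x
  rw [h1]
  refine Function.Bijective.comp ⟨fun a b hab => (cancel_epi _).mp hab, fun b => ?_⟩ h
  exact ⟨inv (Sga3B.BcPts.bcEquiv f (𝟙_ (Over S')) (𝟙_ (Over S)) (toUnit _)) ≫ b, by simp⟩

theorem bijective_bcPt_of_isNeron {R K : Type u} [CommRing R] [Field K] [Algebra R K]
    (N : Over (Spec (CommRingCat.of R))) [GrpObj N] (hN : SGA7.IsNeron R K N) :
    Function.Bijective (bcPt (Spec.map (CommRingCat.ofHom (algebraMap R K))) N) :=
  bijective_bcPt _ N (hN.2.2.2 _ (by
    change Smooth (𝟙 _)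
    infer_instance))

end Points

end Groth.Agent.Sga7.H620.Neutral
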