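import Groth.Agent.Ega2.GeoRelDim
import Groth.Agent.UnramA.SmoothFibreDim
import Groth.Agent.Localalg.GrpDim
import Groth.Agent.Sga3C.DimTop
import Groth.Prelude.Def_Red

/-!
# The fibre dimension of a smooth group scheme over a local ring
-/

set_option autoImplicit false
universe u
open CategoryTheory MonoidalCategory CartesianMonoidalCategory MonObj GrpObj AlgebraicGeometry Limits TopologicalSpace

namespace Groth.Agent.Sga7.H620.DimSmooth

theorem dim_eq_coheight' {k : Type u} [Field k] (G : Over (Spec (CommRingCat.of k))) [GrpObj G]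
    [LocallyOfFiniteType G.hom] (x : G.left)
    (hx : IsClosed {x}) : topologicalKrullDim G.left = (Order.coheight x : WithBot ℕ∞) := by
  have : GrpObj (Over.mk G.hom) := inferInstanceAs (GrpObj G)
  rw [← Localalg.GrpDim.ringKrullDim_stalk G.hom x hx, ringKrullDim_stalk_eq_coheight]

/-- A group scheme over a field which is smooth of relative dimension `n` somewhere has dimension `n`. -/
theorem dim_eq_of_relDim {k : Type u} [Field k] (G : Over (Spec (CommRingCat.of k))) [GrpObj G]
    [LocallyOfFiniteType G.hom] (n : ℕ) {W : Scheme.{u}} (j : W ⟶ G.left) [IsOpenImmersion j] (w : W)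
    (h : SmoothOfRelativeDimension n (j ≫ G.hom)) : topologicalKrullDim G.left = n := by
  obtain ⟨V, hwV, -, hV⟩ := UnramA.SmoothFibreDim.exists_open_dim_eq n (j ≫ G.hom) w
  have hUo : IsOpen (j '' (V : Set W)) := j.isOpenEmbedding.isOpenMap _ V.2
  have hne : (j '' (V : Set W)).Nonempty := ⟨_, w, hwV, rfl⟩
  have hJ : JacobsonSpace G.left := LocallyOfFiniteType.jacobsonSpace G.hom
  obtain ⟨x₀, hx₀, hx₀'⟩ := nonempty_inter_closedPoints hne hUo.isLocallyClosed
  have h1 := Sga3C.DimTop.topologicalKrullDim_open_eq_of_closedPoints (j '' (V : Set W)) hUo hne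
    (Order.coheight x₀) (fun x _ hx => by
      have h2 := dim_eq_coheight' G x hx
      rw [dim_eq_coheight' G x₀ hx₀'] at h2
      exact (WithBot.coe_injective h2).symm)
  have h2 : topologicalKrullDim (j '' (V : Set W)) = topologicalKrullDim (V : Set W) :=
    (IsHomeomorph.topologicalKrullDim_eq _ (j.isOpenEmbedding.isEmbedding.homeomorphImage (V : Set W)).isHomeomorph).symm
  rw [dim_eq_coheight' G x₀ hx₀', ← h1, h2, hV]

theorem exists_relDim {X S : Scheme.{u}} (f : X ⟶ S) [Smooth f] (x : X) :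
    ∃ (n : ℕ) (V : X.Opens), x ∈ V ∧ SmoothOfRelativeDimension n (V.ι ≫ f) := by
  obtain ⟨U, hU, V, hV, hx, e, h⟩ := Smooth.exists_isStandardSmooth f x
  obtain ⟨n, hn⟩ := Picfga.CurveRelDim.exists_relativeDimension h
  exact ⟨n, V, hx, Ega2.GeoRelDim.smoothOfRelativeDimension_ι_comp f n U hU V hV e hn⟩

theorem exists_dim {R : Type u} [CommRing R] [IsLocalRing R] (N : Over (Spec (CommRingCat.of R))) [GrpObj N]
    [Smooth N.hom] : ∃ n : ℕ, ∀ (F : Type u) [Field F] (t : Spec (CommRingCat.of F) ⟶ Spec (CommRingCat.of R)),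
      topologicalKrullDim (Red.bc t N).left = n := by
  obtain ⟨n, V, hx, hV⟩ := exists_relDim N.hom
    ((η[N] : 𝟙_ (Over (Spec (CommRingCat.of R))) ⟶ N).left (IsLocalRing.closedPoint R))
  refine ⟨n, fun F _ t => ?_⟩
  have hall (y : Spec (CommRingCat.of R)) : (η[N] : 𝟙_ (Over (Spec (CommRingCat.of R))) ⟶ N).left y ∈ V := by
    exact ((IsLocalRing.specializes_closedPoint (R := R) y).map
      (η[N] : 𝟙_ (Over (Spec (CommRingCat.of R))) ⟶ N).left.continuous).mem_open V.2 hx
  have hη (y : Spec (CommRingCat.of R)) :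
      N.hom ((η[N] : 𝟙_ (Over (Spec (CommRingCat.of R))) ⟶ N).left y) = y := by
    have h1 : (η[N] : 𝟙_ (Over (Spec (CommRingCat.of R))) ⟶ N).left ≫ N.hom = 𝟙 _ := Over.w _
    rw [← Scheme.Hom.comp_apply, h1]
    rfl
  obtain ⟨z, hz1, hz2⟩ := Scheme.Pullback.exists_preimage_pullback
    (f := N.hom) (g := t) ((η[N] : 𝟙_ (Over (Spec (CommRingCat.of R))) ⟶ N).left (t (IsLocalRing.closedPoint F)))
    (IsLocalRing.closedPoint F) (hη _)
  let W := (pullback.fst N.hom t) ⁻¹ᵁ V
  have hzW : z ∈ W := by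
    change pullback.fst N.hom t z ∈ V
    rw [hz1]
    exact hall _
  have hft : LocallyOfFiniteType (Red.bc t N).hom := by
    change LocallyOfFiniteType (pullback.snd N.hom t)
    infer_instance
  refine dim_eq_of_relDim (Red.bc t N) n (W := W) W.ι ⟨z, hzW⟩ ?_
  have h1 : IsPullback (pullback.fst N.hom t ∣_ V) W.ι V.ι (pullback.fst N.hom t) :=
    isPullback_morphismRestrict _ _
  have h2 : IsPullback (pullback.fst N.hom t) (pullback.snd N.hom t) N.hom t := .of_hasPullback _ _
  exact Ega2.GeoRelDim.relDim_of_isPullback (h1.paste_vert h2) hV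

end Groth.Agent.Sga7.H620.DimSmooth
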