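import Groth.Agent.Sga7.H620.Growth
import Groth.Agent.Sga3B.BcPts
import Groth.Agent.Sga3.H778.NeutralOpen
import Groth.Agent.Sga1.EtaleSection
import Mathlib.AlgebraicGeometry.Noetherian

/-!
# Torsion sections of a group scheme over a local ring and the geometric special fibre
-/

set_option autoImplicit false
universe u
open CategoryTheory MonoidalCategory CartesianMonoidalCategory MonObj GrpObj AlgebraicGeometry Limits TopologicalSpace
open Groth.Agent.Sga7.H620.Growth Groth.Agent.Sga3C Groth.Agent.Sga3.H778.NeutralPts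
  Groth.Agent.Sga3.H778.NeutralOpen

namespace Groth.Agent.Sga7.H620.Special

section

variable {S : Scheme.{u}}

/-- Precomposition as a homomorphism of groups of points. -/
@[simps] noncomputable def preHom {T T' : Over S} (G : Over S) [GrpObj G] (a : T' ⟶ T) : (T ⟶ G) →* (T' ⟶ G) where
  toFun x := a ≫ x
  map_one' := comp_one a
  map_mul' x y := comp_mul a x y

/-- Postcomposition as a homomorphism of groups of points. -/
@[simps] noncomputable def postHom (T : Over S) {G H : Over S} [GrpObj G] [GrpObj H] (f : G ⟶ H) [IsMonHom f] :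
    (T ⟶ G) →* (T ⟶ H) where
  toFun x := x ≫ f
  map_one' := one_comp f
  map_mul' x y := mul_comp x y f

end

section Local

variable {R : Type u} [CommRing R] [IsLocalRing R] {N : Over (Spec (CommRingCat.of R))} [GrpObj N]

theorem eq_one_of_special (n : ℕ) (hn : Etale ((𝟙 N : N ⟶ N) ^ n).left) (T : Over (Spec (CommRingCat.of R)))
    (τ : T.left) (hτ : T.hom τ = IsLocalRing.closedPoint R) (x : 𝟙_ (Over (Spec (CommRingCat.of R))) ⟶ N)
    (hx : x ^ n = 1) (h : toUnit T ≫ x = 1) : x = 1 := by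
  have h1 : x.left ≫ ((𝟙 N : N ⟶ N) ^ n).left =
      (1 : 𝟙_ (Over (Spec (CommRingCat.of R))) ⟶ N).left ≫ ((𝟙 N : N ⟶ N) ^ n).left := by
    rw [← Over.comp_left, ← Over.comp_left, comp_pow, comp_pow, Category.comp_id, Category.comp_id, hx, one_pow]
  have h2 := Sga1.EtaleSection.isOpenImmersion_equalizer ((𝟙 N : N ⟶ N) ^ n).left x.left
    (1 : 𝟙_ (Over (Spec (CommRingCat.of R))) ⟶ N).left h1
  let e : T.left ⟶ equalizer x.left (1 : 𝟙_ (Over (Spec (CommRingCat.of R))) ⟶ N).left :=
    equalizer.lift (toUnit T).left (by rw [← Over.comp_left, h, ← Over.comp_left, comp_one])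
  have h3 : IsLocalRing.closedPoint R ∈
      Set.range (equalizer.ι x.left (1 : 𝟙_ (Over (Spec (CommRingCat.of R))) ⟶ N).left) := by
    refine ⟨e τ, ?_⟩
    rw [← Scheme.Hom.comp_apply]
    have h4 : e ≫ equalizer.ι x.left (1 : 𝟙_ (Over (Spec (CommRingCat.of R))) ⟶ N).left = T.hom := by
      rw [equalizer.lift_ι]
      exact (Category.comp_id _).symm.trans (Over.w (toUnit T))
    exact (congrArg (fun f : T.left ⟶ Spec (CommRingCat.of R) => f τ) h4).trans hτ
  have h5 : Surjective (equalizer.ι x.left (1 : 𝟙_ (Over (Spec (CommRingCat.of R))) ⟶ N).left) := by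
    refine ⟨fun y => ?_⟩
    exact (IsLocalRing.specializes_closedPoint (R := R) y).mem_open
      (equalizer.ι x.left (1 : 𝟙_ (Over (Spec (CommRingCat.of R))) ⟶ N).left).isOpenEmbedding.isOpen_range h3
  have h6 : IsIso (equalizer.ι x.left (1 : 𝟙_ (Over (Spec (CommRingCat.of R))) ⟶ N).left) :=
    (isIso_iff_isOpenImmersion_and_surjective _).2 ⟨h2, h5⟩
  ext1
  rw [← cancel_epi (equalizer.ι x.left (1 : 𝟙_ (Over (Spec (CommRingCat.of R))) ⟶ N).left), equalizer.condition]

theorem TL_special [IsCommMonObj N] {l a : ℕ} (hn : ∀ n : ℕ, Etale ((𝟙 N : N ⟶ N) ^ (l ^ n)).left)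
    (T : Over (Spec (CommRingCat.of R)))
    (τ : T.left) (hτ : T.hom τ = IsLocalRing.closedPoint R)
    (h : TL (𝟙_ (Over (Spec (CommRingCat.of R))) ⟶ N) l a) : TL (T ⟶ N) l a :=
  h.of_injOn (preHom N (toUnit T)) fun n x hx hx' => eq_one_of_special (l ^ n) (hn n) T τ hτ x hx hx'

end Local

section Neutral

variable {S : Scheme.{u}} {N : Over S} [GrpObj N] [IsCommMonObj N]

theorem exists_lift_neutral (h : IsOpen (SGA3x.neutralSet N)) (T : Over S) [Subsingleton T.left] (t : T.left)
    (x y : T ⟶ N)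
    (hxy : (((lift (𝟙 T) x).left t : (T ⊗ N).left) : _root_.ConnectedComponents (T ⊗ N).left) =
      (((lift (𝟙 T) y).left t : (T ⊗ N).left) : _root_.ConnectedComponents (T ⊗ N).left)) :
    ∃ z : T ⟶ opn N (neutral N h), z ≫ opnι N (neutral N h) = x * y⁻¹ := by
  apply exists_lift
  intro t'
  obtain rfl : t' = t := Subsingleton.elim _ _
  change (x * y⁻¹).left t' ∈ SGA3x.neutralSet N
  rw [← lift_mem_iff]
  rw [ConnectedComponents.coe_eq_coe] at hxy
  let A := (GrpBasic.mulRightShear y⁻¹).hom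
  have hA (a : T ⟶ N) : lift (𝟙 T) a ≫ A = lift (𝟙 T) (a * y⁻¹) := by
    ext1
    · simp [A]
    · rw [Category.assoc, GrpBasic.mulRightShear_hom_snd, comp_mul]
      simp
  have h1 : A.left ((lift (𝟙 T) y).left t') = (oneSec T N).left t' := by
    rw [← Scheme.Hom.comp_apply, ← Over.comp_left, oneSec, hA, mul_inv_cancel]
  have h2 := A.left.continuous.image_connectedComponent_subset ((lift (𝟙 T) y).left t')
  rw [h1, ← hxy] at h2
  have h3 := h2 ⟨_, mem_connectedComponent, rfl⟩
  rwa [← Scheme.Hom.comp_apply, ← Over.comp_left, hA] at h3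

theorem TL_neutral (h : IsOpen (SGA3x.neutralSet N)) [GrpObj (opn N (neutral N h))]
    [IsCommMonObj (opn N (neutral N h))]
    [IsMonHom (opnι N (neutral N h))] (T : Over S) [Subsingleton T.left] (t : T.left)
    [Finite (_root_.ConnectedComponents (T ⊗ N).left)] {l a : ℕ} (hl : 1 ≤ l) (hN : TL (T ⟶ N) l a) :
    TL (T ⟶ opn N (neutral N h)) l a := by
  refine TL.of_finite_quotient hl (postHom T (opnι N (neutral N h))) ?_
    (fun x => (((lift (𝟙 T) x).left t : (T ⊗ N).left) : _root_.ConnectedComponents (T ⊗ N).left))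
    (fun x y hxy => exists_lift_neutral h T t x y hxy) hN
  intro x y hxy
  exact (cancel_mono (opnι N (neutral N h))).mp hxy

end Neutral

end Groth.Agent.Sga7.H620.Special
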