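import Groth.Agent.Sga7.H620.Growth
import Groth.Agent.Sga3C.QuotProps
import Groth.Agent.Sga3C.DimTop
import Groth.Agent.S3017
import Groth.Agent.Etcore.AbTors
import Groth.Agent.Localalg.GrpDim
import Groth.Agent.Flat2D.DimFlat
import Groth.Agent.Flat2B.SmoothGeom
import Groth.Agent.Sga3C.GrpIrr
import Mathlib.AlgebraicGeometry.Morphisms.Smooth
import Mathlib.AlgebraicGeometry.AlgClosed.Basic

/-!
# Growth of the torsion of commutative group schemes over algebraically closed fields
-/

set_option autoImplicit false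
universe u
open CategoryTheory MonoidalCategory CartesianMonoidalCategory MonObj GrpObj AlgebraicGeometry Limits
open Groth.Agent.Sga7.H620.Growth

namespace Groth.Agent.Sga7.H620.TorsCount

/-- The group of `S`-points of `G`. -/
abbrev KP {S : Scheme.{u}} (G : Over S) : Type u := 𝟙_ (Over S) ⟶ G

/-- The map on points induced by a homomorphism. -/
@[simps] noncomputable def ptsMap {S : Scheme.{u}} {T G H : Over S} [GrpObj G] [GrpObj H] (f : G ⟶ H) [IsMonHom f] :
    (T ⟶ G) →* (T ⟶ H) where
  toFun x := x ≫ f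
  map_one' := one_comp f
  map_mul' x y := mul_comp x y f

theorem isNormalHom_of_comm {S : Scheme.{u}} {F G : Over S} [GrpObj F] [GrpObj G] [IsCommMonObj G] (i : F ⟶ G) :
    AlgGrp.IsNormalHom i := by
  intro T g n
  exact ⟨n, by rw [_root_.mul_comm g, mul_inv_cancel_right]⟩

theorem isCommMonObj_of_epi {S : Scheme.{u}} {G X : Over S} [GrpObj G] [GrpObj X] [IsCommMonObj G]
    (p : G ⟶ X) [IsMonHom p] [Epi (p ⊗ₘ p)] : IsCommMonObj X := by
  constructor
  rw [← cancel_epi (p ⊗ₘ p), ← Category.assoc, BraidedCategory.braiding_naturality, Category.assoc,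
    ← IsMonHom.mul_hom, IsCommMonObj.mul_comm_assoc]

theorem isCommMonObj_of_mono {S : Scheme.{u}} {F G : Over S} [GrpObj F] [GrpObj G] [IsCommMonObj G]
    (i : F ⟶ G) [IsMonHom i] [Mono i] : IsCommMonObj F := by
  constructor
  rw [← cancel_mono i, Category.assoc, IsMonHom.mul_hom, ← Category.assoc, ← BraidedCategory.braiding_naturality,
    Category.assoc, IsCommMonObj.mul_comm]

variable {k : Type u} [Field k]

theorem dim_eq_coheight (G : Over (Spec (CommRingCat.of k))) [GrpObj G] [LocallyOfFiniteType G.hom] (x : G.left)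
    (hx : IsClosed {x}) : topologicalKrullDim G.left = (Order.coheight x : WithBot ℕ∞) := by
  have : GrpObj (Over.mk G.hom) := inferInstanceAs (GrpObj G)
  rw [← Localalg.GrpDim.ringKrullDim_stalk G.hom x hx, ringKrullDim_stalk_eq_coheight]

/-- The unit point. -/
noncomputable def eP (G : Over (Spec (CommRingCat.of k))) [GrpObj G] : G.left :=
  (η[G] : 𝟙_ (Over (Spec (CommRingCat.of k))) ⟶ G).left (IsLocalRing.closedPoint k)

theorem map_eP {G H : Over (Spec (CommRingCat.of k))} [GrpObj G] [GrpObj H] (f : G ⟶ H) [IsMonHom f] :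
    f.left (eP G) = eP H := by
  unfold eP
  rw [← Scheme.Hom.comp_apply, ← Over.comp_left, IsMonHom.one_hom]

theorem isClosed_eP [IsAlgClosed k] (G : Over (Spec (CommRingCat.of k))) [GrpObj G] [LocallyOfFiniteType G.hom] :
    IsClosed ({eP G} : Set G.left) :=
  (pointEquivClosedPoint G.hom ⟨(η[G] : 𝟙_ (Over (Spec (CommRingCat.of k))) ⟶ G).left, Over.w _⟩).2

theorem dim_add [IsAlgClosed k] {C G X : Over (Spec (CommRingCat.of k))} [GrpObj C] [GrpObj G] [GrpObj X]
    [LocallyOfFiniteType C.hom] [LocallyOfFiniteType G.hom] [LocallyOfFiniteType X.hom]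
    (i : C ⟶ G) [IsMonHom i] (p : G ⟶ X) [IsMonHom p] [Flat p.left] (h : AlgGrp.IsKernel i p) :
    topologicalKrullDim G.left = topologicalKrullDim X.left + topologicalKrullDim C.left := by
  have : IsLocallyNoetherian G.left := LocallyOfFiniteType.isLocallyNoetherian G.hom
  have : IsLocallyNoetherian X.left := LocallyOfFiniteType.isLocallyNoetherian X.hom
  have h1 : IsPullback i.left (toUnit C).left p.left (η[X] : 𝟙_ (Over (Spec (CommRingCat.of k))) ⟶ X).left :=
    h.map (Over.forget _)
  have hη : IsClosedImmersion (η[X] : 𝟙_ (Over (Spec (CommRingCat.of k))) ⟶ X).left :=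
    isClosedImmersion_of_comp_eq_id X.hom _ (Over.w _)
  have hi : IsClosedImmersion i.left :=
    MorphismProperty.of_isPullback (P := @IsClosedImmersion) h1.flip hη
  have hrange : Set.range i.left = p.left ⁻¹' {eP X} := by
    have h2 : Set.range (pullback.fst p.left (η[X] : 𝟙_ (Over (Spec (CommRingCat.of k))) ⟶ X).left) =
        p.left ⁻¹' {eP X} := by
      rw [Scheme.Pullback.range_fst]
      congr 1
      ext y
      constructor
      · rintro ⟨z, rfl⟩
        rw [Set.mem_singleton_iff, eP]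
        exact congrArg _ (Subsingleton.elim (α := ↥(Spec (CommRingCat.of k))) _ _)
      · rintro rfl
        exact ⟨_, rfl⟩
    rw [← h2]
    have h3 : i.left = h1.isoPullback.hom ≫ pullback.fst p.left (η[X] : 𝟙_ (Over (Spec (CommRingCat.of k))) ⟶ X).left :=
      (h1.isoPullback_hom_fst).symm
    ext y
    constructor
    · rintro ⟨z, rfl⟩
      rw [h3, Scheme.Hom.comp_apply]
      exact ⟨_, rfl⟩
    · rintro ⟨z, rfl⟩
      exact ⟨h1.isoPullback.inv z, (Scheme.Hom.comp_apply _ _ _).symm.trans (by rw [h1.isoPullback_inv_fst])⟩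
  let φ : C.left ≃ₜ p.left.fiber (p.left (eP G)) :=
    (i.left.isEmbedding.toHomeomorph.trans (Homeomorph.setCongr (by rw [hrange, map_eP p]))).trans
      (p.left.fiberHomeo (p.left (eP G))).symm
  have hφ : φ (eP C) = p.left.asFiber (eP G) := by
    apply (p.left.fiberHomeo (p.left (eP G))).injective
    apply Subtype.ext
    simp only [φ, Homeomorph.trans_apply, Homeomorph.apply_symm_apply, Scheme.Hom.fiberHomeo_apply,
      Scheme.Hom.fiberι_asFiber]
    change i.left (eP C) = eP G
    exact map_eP i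
  have h4 := Flat2D.DimFlat.coheight_eq_add_fiber p.left (eP G) (Flat.stalkMap p.left _)
  have h5 := Sga3C.DimTop.coheight_homeomorph φ (eP C)
  rw [dim_eq_coheight G (eP G) (isClosed_eP G), dim_eq_coheight X (eP X) (isClosed_eP X),
    dim_eq_coheight C (eP C) (isClosed_eP C), h4, ← hφ, h5, map_eP p]
  rfl

/-- Quotients of smooth connected commutative groups by closed subgroups. -/
theorem exists_quotient [IsAlgClosed k] {C G : Over (Spec (CommRingCat.of k))} [GrpObj C] [GrpObj G]
    [IsCommMonObj G] [Smooth G.hom] [QuasiCompact G.hom] [ConnectedSpace G.left] (i : C ⟶ G) [IsMonHom i]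
    [IsClosedImmersion i.left] :
    ∃ (X : Over (Spec (CommRingCat.of k))) (_ : GrpObj X) (_ : IsCommMonObj X) (p : G ⟶ X), IsMonHom p ∧
      Flat p.left ∧ Surjective p.left ∧ LocallyOfFinitePresentation p.left ∧ AlgGrp.IsKernel i p ∧
      Smooth X.hom ∧ QuasiCompact X.hom ∧ IsSeparated X.hom ∧ ConnectedSpace X.left := by
  have hmono : Mono i := Over.mono_of_mono_left i
  have hft : LocallyOfFiniteType C.hom := by
    rw [← Over.w i]; infer_instance
  obtain ⟨X, p, h1, h2, h3, h4, h5, h6, h7⟩ := Groth.Agent.S3017.result k C G i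
  obtain ⟨gX, hp⟩ := Sga3C.QuotProps.exists_grpObj_quotient i p h4 (isNormalHom_of_comm i)
  have e1 : Epi (p ⊗ₘ p) := by
    have f2 : Flat (p ⊗ₘ p).left := Sga3C.QuotProps.tensorHom_left_of (@Flat) p p ‹_› ‹_›
    have s2 : Surjective (p ⊗ₘ p).left := Sga3C.QuotProps.tensorHom_left_of (@Surjective) p p ‹_› ‹_›
    exact Sga3C.QuotProps.epi_of_flat_surjective _
  have hc : IsCommMonObj X := isCommMonObj_of_epi p
  have hk := Sga3C.QuotProps.isKernel_of_quotient i p h4
  have hsm : Smooth X.hom := h7 inferInstance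
  have hconn : ConnectedSpace X.left := p.left.surjective.connectedSpace p.left.continuous
  have hcpt : CompactSpace G.left := QuasiCompact.compactSpace_of_compactSpace G.hom
  have hcptX : CompactSpace X.left := by
    have := isCompact_range p.left.continuous
    rw [Set.range_eq_univ.mpr p.left.surjective] at this
    exact ⟨this⟩
  exact ⟨X, gX, hc, p, hp, h1, h2, h3, hk, hsm, HasAffineProperty.iff_of_isAffine.mpr hcptX, h5, hconn⟩

theorem TB_of_isKernel {S : Scheme.{u}} {C G X : Over S} [GrpObj C] [GrpObj G] [GrpObj X] [IsCommMonObj C]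
    [IsCommMonObj G] [IsCommMonObj X] (i : C ⟶ G) [IsMonHom i] [Mono i] (p : G ⟶ X) [IsMonHom p]
    (hk : AlgGrp.IsKernel i p) {l a b : ℕ} (h₁ : TB (KP C) l a) (h₂ : TB (KP X) l b) : TB (KP G) l (a + b) := by
  refine TB.of_exact (ptsMap i) (ptsMap p) (fun x y h => (cancel_mono i).mp h) (fun x hx => ?_) h₁ h₂
  exact ⟨hk.lift x (toUnit _) (by
    rw [toUnit_unique (toUnit (𝟙_ (Over S))) (𝟙 _), Category.id_comp]
    exact hx.trans (by rw [Hom.one_def, toUnit_unique (toUnit (𝟙_ (Over S))) (𝟙 _), Category.id_comp])),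
    hk.lift_fst _ _ _⟩

theorem TL_of_isKernel {S : Scheme.{u}} {C G X : Over S} [GrpObj C] [GrpObj G] [GrpObj X] [IsCommMonObj C]
    [IsCommMonObj G] [IsCommMonObj X] (i : C ⟶ G) [IsMonHom i] [Mono i] (p : G ⟶ X) [IsMonHom p]
    (hk : AlgGrp.IsKernel i p) {l a b : ℕ} (hl : 1 ≤ l) (h₁ : TB (KP C) l a) (h₂ : TL (KP G) l (a + b)) :
    TL (KP X) l b := by
  refine TL.of_exact hl (ptsMap i) (ptsMap p) (fun x y h => (cancel_mono i).mp h) (fun x hx => ?_) h₁ h₂
  exact ⟨hk.lift x (toUnit _) (by
    rw [toUnit_unique (toUnit (𝟙_ (Over S))) (𝟙 _), Category.id_comp]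
    exact hx.trans (by rw [Hom.one_def, toUnit_unique (toUnit (𝟙_ (Over S))) (𝟙 _), Category.id_comp])),
    hk.lift_fst _ _ _⟩

theorem geometricallyIntegral_of_smooth_connected (G : Over (Spec (CommRingCat.of k))) [GrpObj G] [Smooth G.hom]
    [ConnectedSpace G.left] : GeometricallyIntegral G.hom := by
  have : GrpObj (Over.mk G.hom) := inferInstanceAs (GrpObj G)
  have := Sga3C.GrpIrr.geometricallyIrreducible_of_connectedSpace G.hom
  exact Flat2B.SmoothGeom.geometricallyIntegral_of_smooth G.hom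

/-- The torsion of an abelian variety: upper bound. -/
theorem TB_of_proper [IsAlgClosed k] (A : Over (Spec (CommRingCat.of k))) [GrpObj A] [IsCommMonObj A]
    [IsProper A.hom] [GeometricallyIntegral A.hom] (g : ℕ) (hg : topologicalKrullDim A.left = g) (l : ℕ)
    (hl : (l : k) ≠ 0) : TB (KP A) l (2 * g) := by
  classical
  refine ⟨1, fun n s hs => ?_⟩
  have hl' : ((l ^ n : ℕ) : k) ≠ 0 := by rw [Nat.cast_pow]; exact pow_ne_zero _ hl
  have h1 := Etcore.AbTors.card_torsion A g hg (l ^ n) hl'
  have hl0 : l ≠ 0 := by rintro rfl; exact hl Nat.cast_zero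
  have hpos : 0 < (l ^ n) ^ (2 * g) := pow_pos (pow_pos (Nat.pos_of_ne_zero hl0) _) _
  have hfin : Finite {x : Over.mk (𝟙 (Spec (CommRingCat.of k))) ⟶ A // x ^ (l ^ n) = 1} :=
    Nat.finite_of_card_ne_zero (by rw [h1]; exact hpos.ne')
  rw [_root_.one_mul, _root_.mul_comm (2 * g), pow_mul, ← h1, ← Nat.card_eq_finsetCard s]
  exact Nat.card_le_card_of_injective (fun x : s => (⟨x.1, hs x.1 x.2⟩ :
    {x : Over.mk (𝟙 (Spec (CommRingCat.of k))) ⟶ A // x ^ (l ^ n) = 1}))
    (fun x y h => Subtype.ext (by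
      have h' := Subtype.mk.inj h
      exact h'))

/-- The dichotomy (Rosenlicht): a smooth connected commutative group which is not proper contains a
positive-dimensional closed subgroup whose torsion has growth `1` (the image of `Gₐ` or `Gₘ`). -/
def HypR (k : Type u) [Field k] (l : ℕ) : Prop :=
  ∀ (G : Over (Spec (CommRingCat.of k))) [GrpObj G] [IsCommMonObj G] [Smooth G.hom] [QuasiCompact G.hom]
    [ConnectedSpace G.left], ¬ IsProper G.hom →
    ∃ (C : Over (Spec (CommRingCat.of k))) (_ : GrpObj C) (_ : IsCommMonObj C) (i : C ⟶ G), IsMonHom i ∧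
      IsClosedImmersion i.left ∧ 1 ≤ topologicalKrullDim C.left ∧ TB (KP C) l 1

theorem main [IsAlgClosed k] (l : ℕ) (hl : (l : k) ≠ 0) (hR : HypR k l) (d : ℕ) :
    ∀ (G : Over (Spec (CommRingCat.of k))) [GrpObj G] [IsCommMonObj G] [Smooth G.hom] [QuasiCompact G.hom]
    [ConnectedSpace G.left], topologicalKrullDim G.left = d →
      TB (KP G) l (2 * d) ∧ (¬ IsProper G.hom → 1 ≤ d ∧ TB (KP G) l (2 * d - 1)) := by
  have hl1 : 1 ≤ l := Nat.pos_of_ne_zero (by rintro rfl; exact hl Nat.cast_zero)
  induction d using Nat.strong_induction_on with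
  | _ d ih =>
    intro G _ _ _ _ _ hd
    by_cases hp : IsProper G.hom
    · have := geometricallyIntegral_of_smooth_connected G
      exact ⟨TB_of_proper G d hd l hl, fun h => absurd hp h⟩
    · obtain ⟨C, gC, cC, i, hi1, hi2, hC, hTB⟩ := hR G hp
      obtain ⟨X, gX, cX, p, hp1, hp2, hp3, hp4, hk, hX1, hX2, hX3, hX4⟩ := exists_quotient i
      have hft : LocallyOfFiniteType C.hom := by
        rw [← Over.w i]; infer_instance
      have hdim := dim_add i p hk
      have hX0 : 0 ≤ topologicalKrullDim X.left := by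
        rw [dim_eq_coheight X (eP X) (isClosed_eP X)]
        exact WithBot.coe_le_coe.mpr bot_le
      rw [hd] at hdim
      rw [dim_eq_coheight X (eP X) (isClosed_eP X), dim_eq_coheight C (eP C) (isClosed_eP C), ← WithBot.coe_add] at hdim
      rw [dim_eq_coheight C (eP C) (isClosed_eP C)] at hC
      have hdim' : (d : ℕ∞) = Order.coheight (eP X) + Order.coheight (eP C) := WithBot.coe_injective hdim
      have hC' : (1 : ℕ∞) ≤ Order.coheight (eP C) := WithBot.coe_le_coe.mp hC
      obtain ⟨a, ha⟩ := ENat.ne_top_iff_exists.mp (show Order.coheight (eP X) ≠ ⊤ by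
        intro h; rw [h, top_add] at hdim'; exact ENat.natCast_ne_top d hdim')
      obtain ⟨b, hb⟩ := ENat.ne_top_iff_exists.mp (show Order.coheight (eP C) ≠ ⊤ by
        intro h; rw [h, add_top] at hdim'; exact ENat.natCast_ne_top d hdim')
      rw [← ha, ← hb] at hdim'
      rw [← hb] at hC'
      have h1 : d = a + b := by exact_mod_cast hdim'
      have h2 : 1 ≤ b := by exact_mod_cast hC'
      have h3 : topologicalKrullDim X.left = a := by
        rw [dim_eq_coheight X (eP X) (isClosed_eP X), ← ha]; rfl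
      have h4 := (ih a (by omega) X h3).1
      have : Mono i := Over.mono_of_mono_left i
      have h5 := TB_of_isKernel i p hk hTB h4
      exact ⟨h5.mono hl1 (by omega), fun _ => ⟨by omega, h5.mono hl1 (by omega)⟩⟩

/-- A smooth connected commutative group with maximal torsion growth is proper. -/
theorem isProper_of_TL [IsAlgClosed k] (l : ℕ) (hl2 : 2 ≤ l) (hl : (l : k) ≠ 0) (hR : HypR k l) (d : ℕ)
    (G : Over (Spec (CommRingCat.of k))) [GrpObj G] [IsCommMonObj G] [Smooth G.hom] [QuasiCompact G.hom]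
    [ConnectedSpace G.left] (hd : topologicalKrullDim G.left = d) (h : TL (KP G) l (2 * d)) : IsProper G.hom := by
  by_contra hp
  obtain ⟨h1, h2⟩ := (main l hl hR d G hd).2 hp
  exact not_TB_of_TL hl2 h (by omega) h2

end Groth.Agent.Sga7.H620.TorsCount
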