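import Groth.Prelude.Def_SGA7IX
import Mathlib.FieldTheory.Galois.Infinite
import Mathlib.FieldTheory.IsSepClosed
import Mathlib.AlgebraicGeometry.ResidueField

/-!
# Galois-fixed geometric points are rational
-/

set_option autoImplicit false
universe u
open CategoryTheory MonoidalCategory CartesianMonoidalCategory MonObj GrpObj AlgebraicGeometry Limits

namespace Groth.Agent.Sga7.H620.GalPt

variable {K Ω : Type u} [Field K] [Field Ω] [Algebra K Ω]

/-- A Galois-fixed point of a `K`-scheme is a `K`-point. -/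
theorem exists_of_fixed [IsGalois K Ω] (A : Over (Spec (CommRingCat.of K))) (x : SGA7.Pts Ω A)
    (hx : ∀ σ : Ω ≃ₐ[K] Ω, SGA7.galAct σ x = x) :
    ∃ y : 𝟙_ (Over (Spec (CommRingCat.of K))) ⟶ A, toUnit _ ≫ y = x := by
  obtain ⟨p, φ, hφ⟩ : ∃ (p : A.left) (φ : A.left.residueField p ⟶ CommRingCat.of Ω),
      x.left = Spec.map φ ≫ A.left.fromSpecResidueField p :=
    ⟨_, _, ((Scheme.SpecToEquivOfField Ω A.left).symm_apply_apply x.left).symm⟩
  have h1 (σ : Ω ≃ₐ[K] Ω) (a : A.left.residueField p) : σ (φ.hom a) = φ.hom a := by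
    have h2 : Spec.map (CommRingCat.ofHom (σ : Ω →+* Ω)) ≫ x.left = x.left := congrArg (·.left) (hx σ)
    rw [hφ, ← Category.assoc] at h2
    have h3 := (cancel_mono _).mp h2
    rw [← Spec.map_comp] at h3
    have h4 := Spec.map_injective h3
    exact congrArg (fun f => f.hom a) h4
  have h2 (a : A.left.residueField p) : φ.hom a ∈ (algebraMap K Ω).range := by
    obtain ⟨b, hb⟩ := (InfiniteGalois.mem_range_algebraMap_iff_fixed (k := K) (φ.hom a)).mpr (fun σ => h1 σ a)
    exact ⟨b, hb⟩
  let e : K ≃+* (algebraMap K Ω).range := RingEquiv.ofBijective (algebraMap K Ω).rangeRestrict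
    ⟨fun a b hab => (algebraMap K Ω).injective (congrArg Subtype.val hab), RingHom.rangeRestrict_surjective _⟩
  let ψ : A.left.residueField p →+* K := (e.symm : (algebraMap K Ω).range →+* K).comp (φ.hom.codRestrict _ h2)
  have hψ : CommRingCat.ofHom ψ ≫ CommRingCat.ofHom (algebraMap K Ω) = φ := by
    ext a
    have h3 : e (ψ a) = φ.hom.codRestrict _ h2 a := e.apply_symm_apply _
    exact congrArg Subtype.val h3
  have hx' : Spec.map (CommRingCat.ofHom (algebraMap K Ω)) ≫
      (Spec.map (CommRingCat.ofHom ψ) ≫ A.left.fromSpecResidueField p) = x.left := by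
    rw [← Category.assoc, ← Spec.map_comp, hψ, hφ]
  refine ⟨Over.homMk (Spec.map (CommRingCat.ofHom ψ) ≫ A.left.fromSpecResidueField p) ?_, ?_⟩
  · change (Spec.map (CommRingCat.ofHom ψ) ≫ A.left.fromSpecResidueField p) ≫ A.hom = 𝟙 _
    obtain ⟨θ, hθ⟩ := Spec.map_surjective ((Spec.map (CommRingCat.ofHom ψ) ≫ A.left.fromSpecResidueField p) ≫ A.hom)
    rw [← hθ]
    have h3 : Spec.map (CommRingCat.ofHom (algebraMap K Ω)) ≫ Spec.map θ =
        Spec.map (CommRingCat.ofHom (algebraMap K Ω)) := by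
      rw [hθ, ← Category.assoc, hx']
      exact Over.w x
    rw [← Spec.map_comp] at h3
    have h4 := Spec.map_injective h3
    have h5 : θ = 𝟙 _ := by
      ext a
      apply (algebraMap K Ω).injective
      exact congrArg (fun f => f.hom a) h4
    rw [h5, Spec.map_id]
  · ext1
    rw [Over.comp_left]
    have h3 : (toUnit (SGA7.pt (K := K) Ω)).left = Spec.map (CommRingCat.ofHom (algebraMap K Ω)) :=
      (Category.comp_id _).symm.trans (Over.w (toUnit (SGA7.pt (K := K) Ω)))
    rw [h3]
    exact hx'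

end Groth.Agent.Sga7.H620.GalPt
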