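import Groth.Agent.Sga7.H620.Neutral
import Groth.Agent.Sga7.H620.GalPt
import Groth.Agent.Etcore.AbTors

/-!
# Torsion of an abelian variety with trivial Galois action
-/

set_option autoImplicit false
universe u
open CategoryTheory MonoidalCategory CartesianMonoidalCategory MonObj GrpObj AlgebraicGeometry Limits TopologicalSpace
open Groth.Agent.Sga7.H620.Growth Groth.Agent.Sga7.H620.Neutral

namespace Groth.Agent.Sga7.H620.Generic

variable {K Ω : Type u} [Field K] [Field Ω] [Algebra K Ω]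

theorem epi_toUnit : Epi (toUnit (SGA7.pt (K := K) Ω)) := by
  have h3 : (toUnit (SGA7.pt (K := K) Ω)).left = Spec.map (CommRingCat.ofHom (algebraMap K Ω)) :=
    (Category.comp_id _).symm.trans (Over.w (toUnit (SGA7.pt (K := K) Ω)))
  have h4 : Epi (toUnit (SGA7.pt (K := K) Ω)).left := by
    rw [h3]
    have h1 : Flat (Spec.map (CommRingCat.ofHom (algebraMap K Ω))) := by
      rw [Flat.SpecMap_iff]
      exact RingHom.flat_algebraMap_iff.mpr inferInstance
    have h2 : Surjective (Spec.map (CommRingCat.ofHom (algebraMap K Ω))) :=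
      ⟨fun x => ⟨IsLocalRing.closedPoint Ω, Subsingleton.elim (α := ↥(Spec (CommRingCat.of K))) _ _⟩⟩
    exact Flat.epi_of_flat_of_surjective _
  exact Over.epi_of_epi_left _

/-- `Spec Ω` as the unit object of `Over (Spec Ω)`, over `Spec K`. -/
noncomputable def ptIso : SGA7.pt (K := K) Ω ≅
    (Over.map (Spec.map (CommRingCat.ofHom (algebraMap K Ω)))).obj (𝟙_ (Over (Spec (CommRingCat.of Ω)))) :=
  Over.isoMk (Iso.refl _) (by
    change 𝟙 _ ≫ 𝟙 _ ≫ _ = _
    rw [Category.id_comp, Category.id_comp]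
    rfl)

variable (A : Over (Spec (CommRingCat.of K))) [GrpObj A]

theorem injective_bcPt : Function.Injective (bcPt (Spec.map (CommRingCat.ofHom (algebraMap K Ω))) A) := by
  intro x y hxy
  have h1 : toUnit ((Over.map (Spec.map (CommRingCat.ofHom (algebraMap K Ω)))).obj
      (𝟙_ (Over (Spec (CommRingCat.of Ω))))) ≫ x = toUnit _ ≫ y :=
    (Sga3B.BcPts.bcMulEquiv _ _ A).injective hxy
  have h2 := congrArg (ptIso.hom ≫ ·) h1
  rw [← Category.assoc, ← Category.assoc, toUnit_unique (ptIso.hom ≫ toUnit _) (toUnit (SGA7.pt (K := K) Ω))] at h2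
  have := epi_toUnit (K := K) (Ω := Ω)
  exact (cancel_epi _).mp h2

theorem exists_bcPt_eq [IsGalois K Ω]
    (x : 𝟙_ (Over (Spec (CommRingCat.of Ω))) ⟶ Red.bc (Spec.map (CommRingCat.ofHom (algebraMap K Ω))) A) (n : ℕ)
    (hx : x ^ n = 1) (h : ∀ (σ : Ω ≃ₐ[K] Ω) (x : SGA7.Pts Ω A), x ^ n = 1 → SGA7.galAct σ x = x) :
    ∃ y : 𝟙_ (Over (Spec (CommRingCat.of K))) ⟶ A, bcPt (Spec.map (CommRingCat.ofHom (algebraMap K Ω))) A y = x := by
  set x₁ := (Sga3B.BcPts.bcMulEquiv (Spec.map (CommRingCat.ofHom (algebraMap K Ω))) _ A).symm x with hx₁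
  have h1 : x₁ ^ n = 1 := by rw [hx₁, ← map_pow, hx, map_one]
  obtain ⟨y, hy⟩ := GalPt.exists_of_fixed A (ptIso.hom ≫ x₁) (fun σ => h σ _ (by
    rw [← comp_pow, h1, comp_one]))
  refine ⟨y, ?_⟩
  change Sga3B.BcPts.bcMulEquiv _ _ A (toUnit _ ≫ y) = x
  rw [← MulEquiv.eq_symm_apply, ← hx₁, ← cancel_epi (ptIso (K := K) (Ω := Ω)).hom, ← hy, ← Category.assoc]
  congr 1

theorem TL_generic [IsGalois K Ω] [IsSepClosed Ω] [IsCommMonObj A] [IsProper A.hom] [GeometricallyIntegral A.hom] (g : ℕ)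
    (hg : topologicalKrullDim (Red.bc (Spec.map (CommRingCat.ofHom (algebraMap K Ω))) A).left = g) (l : ℕ)
    (hl : (l : K) ≠ 0)
    (h : ∀ (ν : ℕ) (σ : Ω ≃ₐ[K] Ω) (x : SGA7.Pts Ω A), x ^ (l ^ ν) = 1 → SGA7.galAct σ x = x) :
    TL (𝟙_ (Over (Spec (CommRingCat.of K))) ⟶ A) l (2 * g) := by
  classical
  have hl0 : l ≠ 0 := by rintro rfl; exact hl Nat.cast_zero
  have i1 : IsProper (Red.bc (Spec.map (CommRingCat.ofHom (algebraMap K Ω))) A).hom :=
    inferInstanceAs (IsProper (pullback.snd A.hom (Spec.map (CommRingCat.ofHom (algebraMap K Ω)))))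
  have i2 : GeometricallyIntegral (Red.bc (Spec.map (CommRingCat.ofHom (algebraMap K Ω))) A).hom :=
    inferInstanceAs (GeometricallyIntegral (pullback.snd A.hom (Spec.map (CommRingCat.ofHom (algebraMap K Ω)))))
  refine ⟨1, fun n => ?_⟩
  have hln : ((l ^ n : ℕ) : Ω) ≠ 0 := by
    rw [Nat.cast_pow]
    refine pow_ne_zero _ (fun h0 => hl ?_)
    apply (algebraMap K Ω).injective
    rw [map_natCast, h0, map_zero]
  have h1 := Etcore.AbTors.card_torsion (Red.bc (Spec.map (CommRingCat.ofHom (algebraMap K Ω))) A) g hg (l ^ n) hln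
  have hpos : 0 < (l ^ n) ^ (2 * g) := pow_pos (pow_pos (Nat.pos_of_ne_zero hl0) _) _
  have hfin : Finite {x : Over.mk (𝟙 (Spec (CommRingCat.of Ω))) ⟶
      Red.bc (Spec.map (CommRingCat.ofHom (algebraMap K Ω))) A // x ^ (l ^ n) = 1} :=
    Nat.finite_of_card_ne_zero (by rw [h1]; exact hpos.ne')
  cases nonempty_fintype {x : Over.mk (𝟙 (Spec (CommRingCat.of Ω))) ⟶
      Red.bc (Spec.map (CommRingCat.ofHom (algebraMap K Ω))) A // x ^ (l ^ n) = 1}
  have h2 (x : {x : Over.mk (𝟙 (Spec (CommRingCat.of Ω))) ⟶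
      Red.bc (Spec.map (CommRingCat.ofHom (algebraMap K Ω))) A // x ^ (l ^ n) = 1}) :=
    exists_bcPt_eq A x.1 (l ^ n) x.2 (h n)
  choose y hy using h2
  refine ⟨Finset.univ.image y, ?_, ?_⟩
  · intro z hz
    obtain ⟨x, -, rfl⟩ := Finset.mem_image.mp hz
    apply injective_bcPt (Ω := Ω) A
    rw [map_pow, hy, map_one]
    exact x.2
  · rw [_root_.one_mul, Finset.card_image_of_injective, Finset.card_univ, ← Nat.card_eq_fintype_card, h1, ← pow_mul,
      _root_.mul_comm n]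
    intro a b hab
    apply Subtype.ext
    rw [← hy a, ← hy b, hab]

end Groth.Agent.Sga7.H620.Generic
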